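import Groth.Agent.Lib.RamOm17.Simple
import Mathlib.RingTheory.DiscreteValuationRing.Basic
import Mathlib.RingTheory.Derivation.Basic
import Mathlib.RingTheory.LocalRing.ResidueField.Basic
import Mathlib.Algebra.Polynomial.Lifts
import Mathlib.Algebra.Polynomial.Identities
import Mathlib.Algebra.Polynomial.Taylor
import Mathlib.RingTheory.DedekindDomain.Ideal.Lemmas

/-!
# The length of the relative differentials of an extension of discrete valuation rings

If `B` is a discrete valuation ring over a local ring `A` with `m_A B = m_B ^ e`, finite residue extension and cyclic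
differentials, then `Ω[B⁄A]` has length at least `e - 1`, with equality exactly in the tame case.
-/

set_option linter.style.haveILetI false
set_option autoImplicit false

universe u

open IsLocalRing Polynomial

namespace Groth.Agent.RamOm17

variable {A B : Type u} [CommRing A] [CommRing B] [Algebra A B]

/-- A derivation given by differentiating polynomial presentations. -/
theorem exists_derivation_derivative (X : B) (I J : Ideal B) (hIJ : I ≤ J)
    (hex : ∀ b, ∃ P : A[X], b - aeval X P ∈ I)
    (hwd : ∀ P : A[X], aeval X P ∈ I → aeval X (derivative P) ∈ J) :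
    ∃ D : Derivation A B (B ⧸ J), ∀ (b : B) (P : A[X]), b - aeval X P ∈ I →
      D b = Ideal.Quotient.mk J (aeval X (derivative P)) := by
  choose c hc using hex
  let F : B → B ⧸ J := fun b => Ideal.Quotient.mk J (aeval X (derivative (c b)))
  have hF : ∀ (b : B) (P : A[X]), b - aeval X P ∈ I → F b = Ideal.Quotient.mk J (aeval X (derivative P)) := by
    intro b P hP
    refine Ideal.Quotient.eq.2 ?_
    rw [← map_sub, ← derivative_sub]
    refine hwd _ ?_
    rw [map_sub]
    simpa using I.sub_mem hP (hc b)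
  let L : B →ₗ[A] B ⧸ J :=
    { toFun := F
      map_add' := fun b b' => by
        rw [hF (b + b') (c b + c b') (by rw [map_add, add_sub_add_comm]; exact I.add_mem (hc b) (hc b')),
          derivative_add, map_add, map_add]
      map_smul' := fun a b => by
        rw [RingHom.id_apply, hF (a • b) (a • c b) (by rw [map_smul, ← smul_sub, Algebra.smul_def]; exact I.mul_mem_left _ (hc b)),
          derivative_smul, map_smul]
        rfl }
  refine ⟨Derivation.mk' L fun b b' => ?_, hF⟩
  show F (b * b') = b • F b' + b' • F b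
  rw [hF (b * b') (c b * c b') (by
      rw [map_mul, show b * b' - aeval X (c b) * aeval X (c b') = b * (b' - aeval X (c b')) + aeval X (c b') * (b - aeval X (c b)) by ring]
      exact I.add_mem (I.mul_mem_left _ (hc b')) (I.mul_mem_left _ (hc b))),
    derivative_mul, map_add, map_mul, map_mul, map_add, map_mul, map_mul]
  have h1 : Ideal.Quotient.mk J (aeval X (c b)) = Ideal.Quotient.mk J b := (Ideal.Quotient.eq.2 (hIJ (hc b))).symm
  have h2 : Ideal.Quotient.mk J (aeval X (c b')) = Ideal.Quotient.mk J b' := (Ideal.Quotient.eq.2 (hIJ (hc b'))).symm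
  rw [h1, h2]
  show _ = Ideal.Quotient.mk J b * F b' + Ideal.Quotient.mk J b' * F b
  ring

/-- A derivation given by the remainder of polynomial presentations. -/
theorem exists_derivation_remainder (X : B) (I : Ideal B)
    (hex : ∀ b, ∃ P : A[X], b - aeval X P ∈ I)
    (hwd : ∀ P : A[X], aeval X P ∈ I → aeval X P ∈ I * I) :
    ∃ D : Derivation A B (B ⧸ (I * I)), ∀ (b : B) (P : A[X]), b - aeval X P ∈ I →
      D b = Ideal.Quotient.mk (I * I) (b - aeval X P) := by
  choose c hc using hex
  let F : B → B ⧸ (I * I) := fun b => Ideal.Quotient.mk _ (b - aeval X (c b))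
  have hF : ∀ (b : B) (P : A[X]), b - aeval X P ∈ I → F b = Ideal.Quotient.mk _ (b - aeval X P) := by
    intro b P hP
    refine Ideal.Quotient.eq.2 ?_
    rw [show b - aeval X (c b) - (b - aeval X P) = aeval X (P - c b) by rw [map_sub]; ring]
    refine hwd _ ?_
    rw [map_sub]
    simpa using I.sub_mem (hc b) hP
  let L : B →ₗ[A] B ⧸ (I * I) :=
    { toFun := F
      map_add' := fun b b' => by
        rw [hF (b + b') (c b + c b') (by rw [map_add, add_sub_add_comm]; exact I.add_mem (hc b) (hc b')),
          map_add, add_sub_add_comm, map_add]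
      map_smul' := fun a b => by
        rw [RingHom.id_apply, hF (a • b) (a • c b) (by rw [map_smul, ← smul_sub, Algebra.smul_def]; exact I.mul_mem_left _ (hc b)),
          map_smul, ← smul_sub]
        rfl }
  refine ⟨Derivation.mk' L fun b b' => ?_, hF⟩
  show F (b * b') = b • F b' + b' • F b
  rw [hF (b * b') (c b * c b') (by
      rw [map_mul, show b * b' - aeval X (c b) * aeval X (c b') = b * (b' - aeval X (c b')) + aeval X (c b') * (b - aeval X (c b)) by ring]
      exact I.add_mem (I.mul_mem_left _ (hc b')) (I.mul_mem_left _ (hc b)))]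
  show _ = Ideal.Quotient.mk (I * I) b * Ideal.Quotient.mk (I * I) (b' - aeval X (c b')) +
    Ideal.Quotient.mk (I * I) b' * Ideal.Quotient.mk (I * I) (b - aeval X (c b))
  rw [← map_mul, ← map_mul, ← map_add, Ideal.Quotient.eq, map_mul]
  rw [show b * b' - aeval X (c b) * aeval X (c b') - (b * (b' - aeval X (c b')) + b' * (b - aeval X (c b))) =
    -((b - aeval X (c b)) * (b' - aeval X (c b'))) by ring]
  exact (I * I).neg_mem (Ideal.mul_mem_mul (hc b) (hc b'))

/-- Taylor expansion to first order. -/
theorem aeval_add_sub_mem (g : A[X]) (x y : B) :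
    aeval (x + y) g - aeval x g - aeval x (derivative g) * y ∈ Ideal.span {y ^ 2} := by
  obtain ⟨r, hr⟩ := (g.map (algebraMap A B)).binomExpansion x y
  rw [derivative_map, eval_map_algebraMap, eval_map_algebraMap, eval_map_algebraMap] at hr
  rw [hr, Ideal.mem_span_singleton]
  exact ⟨r, by ring⟩

variable [IsLocalRing A] [IsDomain B] [IsDiscreteValuationRing B] [IsLocalHom (algebraMap A B)]

theorem residue_aeval (x : B) (P : A[X]) :
    residue B (aeval x P) = aeval (residue B x) (P.map (residue A)) := by
  rw [aeval_def, aeval_def, eval₂_map, hom_eval₂]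
  rfl

theorem aeval_mem_map_of_map_eq_zero (x : B) {P : A[X]} (hP : P.map (residue A) = 0) :
    aeval x P ∈ (maximalIdeal A).map (algebraMap A B) := by
  rw [aeval_eq_sum_range]
  refine Ideal.sum_mem _ fun i _ => ?_
  rw [Algebra.smul_def]
  refine Ideal.mul_mem_right _ _ (Ideal.mem_map_of_mem _ ?_)
  rw [← residue_eq_zero_iff, ← coeff_map, hP, coeff_zero]

theorem maximalIdeal_eq_span {b : B} (hb : b ∈ maximalIdeal B) (hb2 : b ∉ maximalIdeal B ^ 2) :
    maximalIdeal B = Ideal.span {b} := by
  obtain ⟨ϖ, hϖ⟩ := IsDiscreteValuationRing.exists_irreducible B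
  rw [hϖ.maximalIdeal_eq] at hb hb2 ⊢
  obtain ⟨c, rfl⟩ := Ideal.mem_span_singleton.1 hb
  have hc : IsUnit c := by
    by_contra hc
    refine hb2 ?_
    rw [Ideal.span_singleton_pow, pow_two]
    have hc' : c ∈ maximalIdeal B := hc
    rw [hϖ.maximalIdeal_eq, Ideal.mem_span_singleton] at hc'
    exact Ideal.mem_span_singleton.2 (mul_dvd_mul_left ϖ hc')
  rw [Ideal.span_singleton_mul_right_unit hc]

variable [Module.Finite (ResidueField A) (ResidueField B)]

/-- The length of the differentials is at least `e - 1`, with equality exactly in the tame case. -/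
theorem length_kaehler (e : ℕ) (he : 1 ≤ e) (hmap : (maximalIdeal A).map (algebraMap A B) = maximalIdeal B ^ e)
    (hcyc : ∃ w : Ω[B⁄A], Submodule.span B {w} = ⊤) :
    ((e - 1 : ℕ) : ℕ∞) ≤ Module.length B Ω[B⁄A] ∧
      (Module.length B Ω[B⁄A] = ((e - 1 : ℕ) : ℕ∞) ↔
        Algebra.IsSeparable (ResidueField A) (ResidueField B) ∧ ((e : ℕ) : ResidueField A) ≠ 0) := by
  classical
  let κ := ResidueField A
  let κ' := ResidueField B
  obtain ⟨w, hw⟩ := hcyc
  have hwmem : ∀ v : Ω[B⁄A], ∃ c : B, c • w = v := fun v =>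
    Submodule.mem_span_singleton.1 (hw.ge (Submodule.mem_top (x := v)))
  -- the residue extension is simple
  have hcyc' : ∃ v : Ω[κ'⁄κ], Submodule.span κ' {v} = ⊤ := by
    let ψ := KaehlerDifferential.map A κ B κ'
    refine ⟨ψ w, eq_top_iff.2 ?_⟩
    rw [← KaehlerDifferential.span_range_derivation κ κ', Submodule.span_le]
    rintro _ ⟨z, rfl⟩
    obtain ⟨b, rfl⟩ := residue_surjective z
    obtain ⟨c, hc⟩ := hwmem (KaehlerDifferential.D A B b)
    refine Submodule.mem_span_singleton.2 ⟨residue B c, ?_⟩
    rw [show residue B b = algebraMap B κ' b from rfl, ← KaehlerDifferential.map_D A κ B κ' b, ← hc, map_smul]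
    exact algebraMap_smul κ' c (ψ w)
  obtain ⟨α, hα⟩ := exists_primitive_of_cyclic hcyc'
  have hint : IsIntegral κ α := Algebra.IsIntegral.isIntegral α
  set h := minpoly κ α with hh
  obtain ⟨g, hg, -, -⟩ := lifts_and_degree_eq_and_monic
    ((mem_lifts _).2 (map_surjective (residue A) residue_surjective h)) (minpoly.monic hint)
  have hm : ∀ (x : B), residue B x = α → ∀ P : A[X], aeval x P ∈ maximalIdeal B ↔ h ∣ P.map (residue A) := by
    intro x hx P
    rw [← residue_eq_zero_iff, residue_aeval, hx, minpoly.dvd_iff]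
  have hgen : ∀ (x : B), residue B x = α → ∀ b : B, ∃ P : A[X], b - aeval x P ∈ maximalIdeal B := by
    intro x hx b
    have hb : residue B b ∈ Algebra.adjoin κ {α} := by
      rw [← IntermediateField.adjoin_simple_toSubalgebra_of_isAlgebraic (Algebra.IsAlgebraic.isAlgebraic α), hα]
      exact IntermediateField.mem_top
    rw [Algebra.adjoin_singleton_eq_range_aeval] at hb
    obtain ⟨Pbar, hP⟩ := hb
    obtain ⟨P, rfl⟩ := map_surjective (residue A) residue_surjective Pbar
    refine ⟨P, ?_⟩
    rw [← residue_eq_zero_iff, map_sub, residue_aeval, hx, sub_eq_zero]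
    exact hP.symm
  -- a good lift of the generator
  have hsepiff : Algebra.IsSeparable κ κ' ↔ derivative h ≠ 0 := by
    rw [← separable_iff_derivative_ne_zero (minpoly.irreducible hint)]
    constructor
    · intro _
      exact Algebra.IsSeparable.isSeparable κ α
    · intro hs
      have : Algebra.IsSeparable κ (IntermediateField.adjoin κ {α}) :=
        (IntermediateField.isSeparable_adjoin_simple_iff_isSeparable κ κ').2 hs
      rw [hα] at this
      exact AlgEquiv.Algebra.isSeparable (IntermediateField.topEquiv (F := κ) (E := κ'))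
  obtain ⟨X, hX, hgood⟩ : ∃ X : B, residue B X = α ∧
      ((Algebra.IsSeparable κ κ' ∨ 2 ≤ e) → aeval X g ∉ maximalIdeal B ^ 2) := by
    obtain ⟨X₀, hX₀⟩ := residue_surjective α
    by_cases hs : Algebra.IsSeparable κ κ'
    · by_cases h2 : aeval X₀ g ∈ maximalIdeal B ^ 2
      · obtain ⟨ϖ, hϖ⟩ := IsDiscreteValuationRing.exists_irreducible B
        have hϖm : ϖ ∈ maximalIdeal B := hϖ.maximalIdeal_eq ▸ Ideal.mem_span_singleton_self ϖ
        refine ⟨X₀ + ϖ, by rw [map_add, hX₀, residue_eq_zero_iff ϖ |>.2 hϖm, add_zero], fun _ hcon => ?_⟩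
        have hy : Ideal.span {ϖ ^ 2} ≤ maximalIdeal B ^ 2 :=
          (Ideal.span_singleton_le_iff_mem _).2 (Ideal.pow_mem_pow hϖm 2)
        have h3 : aeval X₀ (derivative g) * ϖ ∈ maximalIdeal B ^ 2 := by
          have := sub_mem (sub_mem hcon h2) (hy (aeval_add_sub_mem g X₀ ϖ))
          simpa using this
        have hu : IsUnit (aeval X₀ (derivative g)) := by
          refine notMem_maximalIdeal.1 fun hmem => ?_
          have hd := (hm X₀ hX₀ _).1 hmem
          rw [← derivative_map, hg] at hd
          exact (hsepiff.1 hs) (eq_zero_of_dvd_of_natDegree_lt hd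
            (natDegree_derivative_lt (minpoly.natDegree_pos hint).ne'))
        obtain ⟨v, hv⟩ := hu.exists_left_inv
        have h4 : ϖ ∈ maximalIdeal B ^ 2 := by
          have := Ideal.mul_mem_left (maximalIdeal B ^ 2) v h3
          rwa [← mul_assoc, hv, one_mul] at this
        rw [hϖ.maximalIdeal_eq, Ideal.span_singleton_pow, Ideal.mem_span_singleton, pow_two] at h4
        exact hϖ.not_isUnit (isUnit_iff_dvd_one.2 ((mul_dvd_mul_iff_left hϖ.ne_zero).1 (by rwa [mul_one])))
      · exact ⟨X₀, hX₀, fun _ => h2⟩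
    · refine ⟨X₀, hX₀, fun h2 hcon => ?_⟩
      replace h2 : 2 ≤ e := h2.resolve_left hs
      have hd0 : derivative h = 0 := not_not.1 fun hn => hs (hsepiff.2 hn)
      obtain ⟨ϖ, hϖ⟩ := IsDiscreteValuationRing.exists_irreducible B
      have hϖm : ϖ ∈ maximalIdeal B := hϖ.maximalIdeal_eq ▸ Ideal.mem_span_singleton_self ϖ
      obtain ⟨D₁, hD₁⟩ := exists_derivation_derivative X₀ (maximalIdeal B) (maximalIdeal B) le_rfl (hgen X₀ hX₀)
        (fun P hP => by
          rw [hm X₀ hX₀] at hP ⊢
          obtain ⟨Q, hQ⟩ := hP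
          rw [← derivative_map, hQ, derivative_mul, hd0, zero_mul, zero_add]
          exact dvd_mul_right h _)
      obtain ⟨D₂, hD₂⟩ := exists_derivation_remainder X₀ (maximalIdeal B) (hgen X₀ hX₀) (fun P hP => by
          obtain ⟨Q, hQ⟩ := (hm X₀ hX₀ P).1 hP
          obtain ⟨Q, rfl⟩ := map_surjective (residue A) residue_surjective Q
          have h1 : aeval X₀ (P - g * Q) ∈ maximalIdeal B ^ 2 := by
            refine Ideal.pow_le_pow_right h2 (hmap ▸ aeval_mem_map_of_map_eq_zero X₀ ?_)
            rw [Polynomial.map_sub, Polynomial.map_mul, hg, hQ, sub_self]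
          rw [← pow_two]
          rw [map_sub, map_mul] at h1
          have := add_mem h1 (Ideal.mul_mem_right (aeval X₀ Q) _ hcon)
          rwa [sub_add_cancel] at this)
      obtain ⟨c, hc⟩ := hwmem (KaehlerDifferential.D A B X₀)
      obtain ⟨c', hc'⟩ := hwmem (KaehlerDifferential.D A B ϖ)
      have e1 : c • D₁.liftKaehlerDifferential w = Ideal.Quotient.mk (maximalIdeal B) 1 := by
        rw [← map_smul, hc, D₁.liftKaehlerDifferential_comp_D, hD₁ X₀ Polynomial.X (by simp)]
        simp
      have hcu : IsUnit c := by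
        refine notMem_maximalIdeal.1 fun hcm => ?_
        obtain ⟨z, hz⟩ := Ideal.Quotient.mk_surjective (D₁.liftKaehlerDifferential w)
        rw [← hz] at e1
        have e2 : Ideal.Quotient.mk (maximalIdeal B) (c * z) = Ideal.Quotient.mk (maximalIdeal B) 1 := e1
        rw [Ideal.Quotient.eq_zero_iff_mem.2 (Ideal.mul_mem_right z _ hcm), eq_comm, Ideal.Quotient.eq_zero_iff_mem] at e2
        exact (maximalIdeal.isMaximal B).ne_top ((Ideal.eq_top_iff_one _).2 e2)
      have e3 : D₂.liftKaehlerDifferential w = 0 := by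
        have : c • D₂.liftKaehlerDifferential w = 0 := by
          rw [← map_smul, hc, D₂.liftKaehlerDifferential_comp_D, hD₂ X₀ Polynomial.X (by simp)]
          simp
        exact hcu.smul_eq_zero.1 this
      have e4 : Ideal.Quotient.mk (maximalIdeal B * maximalIdeal B) ϖ = 0 := by
        have e5 := hD₂ ϖ 0 (by simpa using hϖm)
        rw [map_zero, sub_zero, ← D₂.liftKaehlerDifferential_comp_D, ← hc', map_smul, e3, smul_zero] at e5
        exact e5.symm
      rw [Ideal.Quotient.eq_zero_iff_mem, hϖ.maximalIdeal_eq, Ideal.span_singleton_mul_span_singleton,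
        Ideal.mem_span_singleton] at e4
      exact hϖ.not_isUnit (isUnit_iff_dvd_one.2 ((mul_dvd_mul_iff_left hϖ.ne_zero).1 (by rwa [mul_one])))
  set γ := aeval X g with hγ
  have hγm : γ ∈ maximalIdeal B := (hm X hX g).2 (by rw [hg])
  have hγspan : (Algebra.IsSeparable κ κ' ∨ 2 ≤ e) → maximalIdeal B = Ideal.span {γ} := fun h2 =>
    maximalIdeal_eq_span hγm (hgood h2)
  -- presentations modulo powers of the maximal ideal
  have hker2 : ∀ (j : ℕ), j ≤ e → ∀ P : A[X], h ^ j ∣ P.map (residue A) → aeval X P ∈ maximalIdeal B ^ j := by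
    intro j hj P hP
    obtain ⟨Q, hQ⟩ := hP
    obtain ⟨Q, rfl⟩ := map_surjective (residue A) residue_surjective Q
    have h1 : aeval X (P - g ^ j * Q) ∈ maximalIdeal B ^ j := by
      refine Ideal.pow_le_pow_right hj (hmap ▸ aeval_mem_map_of_map_eq_zero X ?_)
      rw [Polynomial.map_sub, Polynomial.map_mul, Polynomial.map_pow, hg, hQ, sub_self]
    rw [map_sub, map_mul, map_pow] at h1
    have := add_mem h1 (Ideal.mul_mem_right (aeval X Q) _ (Ideal.pow_mem_pow hγm j))
    rwa [sub_add_cancel] at this
  have hker : ∀ (j : ℕ), j ≤ e → ∀ P : A[X], aeval X P ∈ maximalIdeal B ^ j → h ^ j ∣ P.map (residue A) := by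
    intro j
    induction j with
    | zero => intro _ P _; rw [pow_zero]; exact one_dvd _
    | succ j ih =>
      intro hj P hP
      rcases Nat.eq_zero_or_pos j with rfl | hjpos
      · rw [zero_add, pow_one] at hP ⊢
        exact (hm X hX P).1 hP
      have hspan := hγspan (Or.inr (by omega))
      have hγ0 : γ ≠ 0 := fun h0 => IsDiscreteValuationRing.not_a_field B (by rw [hspan, h0, Ideal.span_singleton_eq_bot.2 rfl])
      obtain ⟨Q, hQ⟩ := ih (by omega) P (Ideal.pow_le_pow_right (by omega) hP)
      obtain ⟨Q, rfl⟩ := map_surjective (residue A) residue_surjective Q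
      have h1 : aeval X (P - g ^ j * Q) ∈ maximalIdeal B ^ (j + 1) := by
        refine Ideal.pow_le_pow_right hj (hmap ▸ aeval_mem_map_of_map_eq_zero X ?_)
        rw [Polynomial.map_sub, Polynomial.map_mul, Polynomial.map_pow, hg, hQ, sub_self]
      rw [map_sub, map_mul, map_pow] at h1
      have h2 := sub_mem hP h1
      rw [sub_sub_cancel, hspan, Ideal.span_singleton_pow, Ideal.mem_span_singleton, pow_succ,
        mul_dvd_mul_iff_left (pow_ne_zero _ hγ0), ← Ideal.mem_span_singleton, ← hspan] at h2
      obtain ⟨R, hR⟩ := (hm X hX Q).1 h2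
      exact ⟨R, by rw [hQ, hR, pow_succ, mul_assoc]⟩
  have hpres : ∀ j, j ≤ e → ∀ b : B, ∃ P : A[X], b - aeval X P ∈ maximalIdeal B ^ j := by
    intro j
    induction j with
    | zero => intro _ b; exact ⟨0, by simp⟩
    | succ j ih =>
      intro hj b
      rcases Nat.eq_zero_or_pos j with rfl | hjpos
      · simpa using hgen X hX b
      have hspan := hγspan (Or.inr (by omega))
      obtain ⟨P, hP⟩ := ih (by omega) b
      rw [hspan, Ideal.span_singleton_pow, Ideal.mem_span_singleton] at hP
      obtain ⟨c, hc⟩ := hP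
      obtain ⟨Q, hQ⟩ := hgen X hX c
      refine ⟨P + g ^ j * Q, ?_⟩
      rw [map_add, map_mul, map_pow, ← sub_sub, hc, ← mul_sub, pow_succ]
      exact Ideal.mul_mem_mul (Ideal.pow_mem_pow hγm j) hQ
  have hlow : ∀ n : ℕ, n ≤ e → (h ^ n ∣ (e : κ[X]) * h ^ (e - 1) * derivative h) →
      ((n : ℕ) : ℕ∞) ≤ Module.length B Ω[B⁄A] := by
    intro n hn hdvd
    obtain ⟨D, hD⟩ := exists_derivation_derivative X (maximalIdeal B ^ e) (maximalIdeal B ^ n)
      (Ideal.pow_le_pow_right hn) (hpres e le_rfl) (fun P hP => by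
        refine hker2 n hn _ ?_
        obtain ⟨Q, hQ⟩ := hker e le_rfl P hP
        rw [← derivative_map, hQ, derivative_mul, derivative_pow]
        refine dvd_add (Dvd.dvd.mul_right ?_ _) (Dvd.dvd.mul_right (pow_dvd_pow h hn) _)
        rwa [map_natCast])
    rw [← IsDiscreteValuationRing.length_quotient_pow_maximalIdeal B n]
    refine Module.length_le_of_surjective D.liftKaehlerDifferential fun z => ?_
    obtain ⟨b, rfl⟩ := Ideal.Quotient.mk_surjective z
    refine ⟨b • KaehlerDifferential.D A B X, ?_⟩
    rw [map_smul, D.liftKaehlerDifferential_comp_D, hD X Polynomial.X (by simp)]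
    simp only [derivative_X, map_one]
    exact (Algebra.smul_def _ _).trans (mul_one _)
  have h1 : ((e - 1 : ℕ) : ℕ∞) ≤ Module.length B Ω[B⁄A] :=
    hlow (e - 1) (by omega) (Dvd.dvd.mul_right (dvd_mul_left _ _) _)
  refine ⟨h1, ⟨fun heq => ?_, fun ⟨hs, hchar⟩ => le_antisymm ?_ h1⟩⟩
  · by_contra htame
    have h2 : (e : κ[X]) * h ^ (e - 1) * derivative h = 0 := by
      by_cases hd : derivative h = 0
      · rw [hd, mul_zero]
      · have : ((e : ℕ) : κ) = 0 := by_contra fun hne => htame ⟨hsepiff.2 hd, hne⟩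
        rw [← map_natCast (C : κ →+* κ[X]), this, map_zero, zero_mul, zero_mul]
    have h3 := hlow e le_rfl (h2 ▸ dvd_zero _)
    rw [heq, Nat.cast_le] at h3
    omega
  -- tame: the differentials are killed by the power `e - 1`
  have hspan := hγspan (Or.inl hs)
  let dX := KaehlerDifferential.D A B X
  have hsp : ∀ v : Ω[B⁄A], ∃ c : B, c • dX = v := by
    haveI : Module.Finite B Ω[B⁄A] := ⟨⟨{w}, by rw [Finset.coe_singleton]; exact hw⟩⟩
    have hle : (⊤ : Submodule B Ω[B⁄A]) ≤ Submodule.span B {dX} := by
      refine Submodule.le_of_le_smul_of_le_jacobson_bot Module.Finite.fg_top (maximalIdeal_le_jacobson ⊥) ?_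
      rw [← KaehlerDifferential.span_range_derivation A B, Submodule.span_le]
      rintro _ ⟨b, rfl⟩
      obtain ⟨P, hP⟩ := hgen X hX b
      rw [hspan, Ideal.mem_span_singleton] at hP
      obtain ⟨c, hc⟩ := hP
      rw [show b = aeval X P + γ * c by rw [← hc]; ring, map_add, Derivation.map_aeval, Derivation.leibniz,
        hγ, Derivation.map_aeval, KaehlerDifferential.span_range_derivation]
      refine Submodule.add_mem _ (Submodule.mem_sup_left (Submodule.smul_mem _ _ (Submodule.mem_span_singleton_self _)))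
        (Submodule.add_mem _ (Submodule.mem_sup_right (Submodule.smul_mem_smul hγm Submodule.mem_top)) ?_)
      exact Submodule.mem_sup_left (Submodule.smul_mem _ _ (Submodule.smul_mem _ _ (Submodule.mem_span_singleton_self _)))
    exact fun v => Submodule.mem_span_singleton.1 (hle Submodule.mem_top)
  obtain ⟨a, ha, hae⟩ : ∃ a ∈ maximalIdeal A, algebraMap A B a ∉ maximalIdeal B ^ (e + 1) := by
    by_contra hall
    push Not at hall
    have hle : maximalIdeal B ^ e ≤ maximalIdeal B ^ (e + 1) := hmap ▸ Ideal.map_le_iff_le_comap.2 hall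
    exact ((Ideal.pow_right_strictAnti _ (IsDiscreteValuationRing.not_a_field B)
      (maximalIdeal.isMaximal B).ne_top) (Nat.lt_succ_self e)).not_ge hle
  obtain ⟨v, hv⟩ : ∃ v, algebraMap A B a = γ ^ e * v := by
    have := Ideal.mem_map_of_mem (algebraMap A B) ha
    rwa [hmap, hspan, Ideal.span_singleton_pow, Ideal.mem_span_singleton] at this
  have hvu : IsUnit v := notMem_maximalIdeal.1 fun hvm => hae (by
    rw [hv, pow_succ]; exact Ideal.mul_mem_mul (Ideal.pow_mem_pow hγm e) hvm)
  obtain ⟨d, hd⟩ := hsp (KaehlerDifferential.D A B v)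
  have hunit : IsUnit (v * (e : B) * aeval X (derivative g) + γ * d) := by
    refine notMem_maximalIdeal.1 fun hmem => ?_
    have h4 : v * (e : B) * aeval X (derivative g) ∈ maximalIdeal B := by
      simpa using sub_mem hmem (Ideal.mul_mem_right d _ hγm)
    rcases (maximalIdeal.isMaximal B).isPrime.mem_or_mem h4 with h5 | h5
    · rcases (maximalIdeal.isMaximal B).isPrime.mem_or_mem h5 with h6 | h6
      · exact notMem_maximalIdeal.2 hvu h6
      · rw [← residue_eq_zero_iff, map_natCast, ← map_natCast (algebraMap κ κ'), map_eq_zero] at h6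
        exact hchar h6
    · have hdd := (hm X hX _).1 h5
      rw [← derivative_map, hg] at hdd
      exact (hsepiff.1 hs) (eq_zero_of_dvd_of_natDegree_lt hdd
        (natDegree_derivative_lt (minpoly.natDegree_pos hint).ne'))
  have hkill : γ ^ (e - 1) • dX = 0 := by
    have h4 : (γ ^ (e - 1) * (v * (e : B) * aeval X (derivative g) + γ * d)) • dX = 0 := by
      have h5 : KaehlerDifferential.D A B (algebraMap A B a) = 0 := Derivation.map_algebraMap _ a
      rw [hv, Derivation.leibniz, Derivation.leibniz_pow, ← hd, hγ, Derivation.map_aeval, ← hγ,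
        ← Nat.cast_smul_eq_nsmul B, smul_smul, smul_smul, smul_smul, smul_smul, ← add_smul] at h5
      have hpow : γ ^ e = γ ^ (e - 1) * γ := by rw [← pow_succ, Nat.sub_add_cancel he]
      rw [← h5, hpow]
      congr 1
      ring
    rw [mul_comm, mul_smul] at h4
    exact hunit.smul_eq_zero.1 h4
  rw [← IsDiscreteValuationRing.length_quotient_pow_maximalIdeal B (e - 1)]
  refine Module.length_le_of_surjective (Submodule.liftQ _ (LinearMap.toSpanSingleton B Ω[B⁄A] dX) ?_) fun z => ?_
  · rw [hspan, Ideal.span_singleton_pow, Ideal.span, Submodule.span_le]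
    simpa using hkill
  · obtain ⟨c, hc⟩ := hsp z
    exact ⟨Submodule.Quotient.mk c, hc⟩

end Groth.Agent.RamOm17
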