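import Mathlib.FieldTheory.PrimitiveElement
import Mathlib.FieldTheory.PurelyInseparable.PerfectClosure
import Mathlib.FieldTheory.Perfect
import Mathlib.RingTheory.Unramified.Field
import Mathlib.RingTheory.Kaehler.Basic

/-!
# A finite field extension whose differentials are cyclic is simple
-/

set_option linter.style.haveILetI false
set_option autoImplicit false

universe u

open IntermediateField

namespace Groth.Agent.RamOm17

variable {F E : Type u} [Field F] [Field E] [Algebra F E]

/-- The subfield killed by the differential relative to an intermediate field. -/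
noncomputable def derKer (M : IntermediateField F E) : IntermediateField F E where
  carrier := {z | KaehlerDifferential.D M E z = 0}
  mul_mem' {a b} ha hb := by
    simp only [Set.mem_setOf_eq] at ha hb ⊢
    rw [Derivation.leibniz, ha, hb, smul_zero, smul_zero, add_zero]
  one_mem' := by simp
  add_mem' {a b} ha hb := by
    simp only [Set.mem_setOf_eq] at ha hb ⊢
    rw [map_add, ha, hb, add_zero]
  zero_mem' := by simp
  algebraMap_mem' r := (KaehlerDifferential.D M E).map_algebraMap (algebraMap F M r)
  inv_mem' a ha := by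
    simp only [Set.mem_setOf_eq] at ha ⊢
    rw [Derivation.leibniz_inv, ha, smul_zero]

theorem le_derKer (M : IntermediateField F E) : M ≤ derKer M :=
  fun z hz => (KaehlerDifferential.D M E).map_algebraMap ⟨z, hz⟩

variable [FiniteDimensional F E]

/-- If the differentials are cyclic, the separable closure and any element with nonzero differential generate. -/
theorem sup_adjoin_eq_top (hcyc : ∃ w : Ω[E⁄F], Submodule.span E {w} = ⊤) {x : E}
    (hx : KaehlerDifferential.D F E x ≠ 0) : separableClosure F E ⊔ F⟮x⟯ = ⊤ := by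
  by_contra hne
  haveI : WellFoundedGT (IntermediateField F E) :=
    StrictMono.wellFoundedGT (f := fun M : IntermediateField F E => Subalgebra.toSubmodule M.toSubalgebra)
      fun a b h => h
  obtain ⟨M, hle, hM⟩ := exists_maximal_ge_of_wellFoundedGT (fun M : IntermediateField F E => M ≠ ⊤) _ hne
  haveI : IsPurelyInseparable M E := by
    letI := (inclusion ((le_sup_left : separableClosure F E ≤ _).trans hle)).toAlgebra
    haveI : IsScalarTower (separableClosure F E) M E := .of_algebraMap_eq' rfl
    exact IsPurelyInseparable.tower_top (separableClosure F E) M E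
  haveI : Nontrivial Ω[E⁄M] := by
    rw [← not_subsingleton_iff_nontrivial]
    intro h
    haveI : Algebra.FormallyUnramified M E := ⟨h⟩
    haveI := Algebra.FormallyUnramified.isSeparable M E
    refine hM.prop (eq_top_iff.2 fun z _ => ?_)
    obtain ⟨y, hy⟩ := IsPurelyInseparable.surjective_algebraMap_of_isSeparable M E z
    exact hy ▸ y.2
  have hker : derKer M ≤ M := hM.le_of_ge (fun htop => by
    have hD : ∀ z, KaehlerDifferential.D M E z = 0 := fun z => htop.ge (IntermediateField.mem_top (x := z))
    obtain ⟨v, hv⟩ := exists_ne (0 : Ω[E⁄M])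
    refine hv ((Submodule.mem_bot E).1 (le_of_eq_of_le (KaehlerDifferential.span_range_derivation M E).symm ?_ Submodule.mem_top))
    rw [Submodule.span_le]
    rintro _ ⟨z, rfl⟩
    exact (Submodule.mem_bot E).2 (hD z)) (le_derKer M)
  obtain ⟨w, hw⟩ := hcyc
  obtain ⟨c, hc⟩ := Submodule.mem_span_singleton.1 (hw.ge (Submodule.mem_top (x := KaehlerDifferential.D F E x)))
  let φ := KaehlerDifferential.map F M E E
  have hφw : φ w ≠ 0 := fun h0 => by
    obtain ⟨v, hv⟩ := exists_ne (0 : Ω[E⁄M])
    obtain ⟨v', rfl⟩ := KaehlerDifferential.map_surjective F M E v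
    obtain ⟨d, rfl⟩ := Submodule.mem_span_singleton.1 (hw.ge (Submodule.mem_top (x := v')))
    exact hv (by show φ (d • w) = 0; rw [map_smul, h0, smul_zero])
  have h0 : c • φ w = 0 := by
    rw [← map_smul, hc]
    show KaehlerDifferential.map F M E E _ = 0
    rw [KaehlerDifferential.map_D]
    exact le_derKer M (hle (le_sup_right (a := separableClosure F E) (mem_adjoin_simple_self F x)))
  rcases smul_eq_zero.1 h0 with hc0 | h
  · exact hx (by rw [← hc, hc0, zero_smul])
  · exact hφw h

/-- A finite extension with cyclic differentials is simple. -/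
theorem exists_primitive_of_cyclic (hcyc : ∃ w : Ω[E⁄F], Submodule.span E {w} = ⊤) : ∃ α : E, F⟮α⟯ = ⊤ := by
  by_cases hs : Algebra.IsSeparable F E
  · exact Field.exists_primitive_element F E
  haveI : Infinite F := by
    rw [← not_finite_iff_infinite]
    intro hfin
    exact hs inferInstance
  obtain ⟨x, hx⟩ : ∃ x, KaehlerDifferential.D F E x ≠ 0 := by
    by_contra h
    push Not at h
    refine hs ?_
    haveI : Algebra.FormallyUnramified F E := ⟨by
      refine (Submodule.subsingleton_iff E).1 (subsingleton_of_bot_eq_top (le_antisymm bot_le ?_))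
      rw [← KaehlerDifferential.span_range_derivation F E, Submodule.span_le]
      rintro _ ⟨z, rfl⟩
      exact (Submodule.mem_bot E).2 (h z)⟩
    exact Algebra.FormallyUnramified.isSeparable F E
  have htop := sup_adjoin_eq_top hcyc hx
  let S := separableClosure F E
  obtain ⟨a, ha⟩ := Field.exists_primitive_element F S
  have hS : S = F⟮(a : E)⟯ := by
    have := congrArg (IntermediateField.map S.val) ha
    rw [IntermediateField.adjoin_map, Set.image_singleton, ← AlgHom.fieldRange_eq_map, IntermediateField.fieldRange_val] at this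
    exact this.symm
  obtain ⟨p, hp⟩ := ExpChar.exists F
  haveI := hp
  haveI : ExpChar S p := expChar_of_injective_algebraMap (algebraMap F S).injective p
  obtain ⟨n, y, hy⟩ := IsPurelyInseparable.pow_mem S p x
  haveI : ExpChar E p := expChar_of_injective_algebraMap (algebraMap F E).injective p
  let u : F → S := fun c => y + algebraMap F S (c ^ p ^ n) * a ^ p ^ n
  haveI : Finite (IntermediateField F S) :=
    (Field.exists_primitive_element_iff_finite_intermediateField F S).1 ⟨inferInstance, a, ha⟩
  obtain ⟨c₁, c₂, hne, heq⟩ := Finite.exists_ne_map_eq_of_infinite (fun c : F => F⟮u c⟯)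
  have hu : ∀ c, (u c : E) = (x + algebraMap F E c * (a : E)) ^ p ^ n := fun c => by
    rw [add_pow_expChar_pow, mul_pow, ← map_pow]
    show (y : E) + algebraMap F E (c ^ p ^ n) * (a : E) ^ p ^ n = _
    rw [show (y : E) = x ^ p ^ n from hy]
  refine ⟨x + algebraMap F E c₁ * (a : E), ?_⟩
  set N := F⟮x + algebraMap F E c₁ * (a : E)⟯ with hN
  have h1 : (u c₂ : E) ∈ N := by
    have h2 : u c₂ ∈ F⟮u c₁⟯ := heq.symm ▸ mem_adjoin_simple_self F (u c₂)
    have h3 : (F⟮u c₁⟯).map S.val ≤ N := by
      rw [IntermediateField.adjoin_map, Set.image_singleton, IntermediateField.adjoin_simple_le_iff]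
      show (u c₁ : E) ∈ N
      rw [hu]; exact pow_mem (mem_adjoin_simple_self F _) _
    exact h3 ⟨u c₂, h2, rfl⟩
  have h2 : algebraMap F E (c₁ ^ p ^ n - c₂ ^ p ^ n) * (a : E) ^ p ^ n ∈ N := by
    have h3 : (u c₁ : E) - u c₂ ∈ N := sub_mem (by rw [hu]; exact pow_mem (mem_adjoin_simple_self F _) _) h1
    have h4 : (u c₁ : E) - u c₂ = algebraMap F E (c₁ ^ p ^ n - c₂ ^ p ^ n) * (a : E) ^ p ^ n := by
      show ((y : E) + algebraMap F E (c₁ ^ p ^ n) * (a : E) ^ p ^ n) -
        ((y : E) + algebraMap F E (c₂ ^ p ^ n) * (a : E) ^ p ^ n) = _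
      rw [map_sub]; ring
    rwa [h4] at h3
  have hc : c₁ ^ p ^ n - c₂ ^ p ^ n ≠ 0 := sub_ne_zero.2 fun h => hne (iterateFrobenius_inj F p n h)
  have h3 : (a : E) ^ p ^ n ∈ N := by
    have := mul_mem (N.algebraMap_mem (c₁ ^ p ^ n - c₂ ^ p ^ n)⁻¹) h2
    rwa [← mul_assoc, ← map_mul, inv_mul_cancel₀ hc, map_one, one_mul] at this
  have h4 : (a : E) ∈ N := by
    have hsepa : IsSeparable F (a : E) := mem_separableClosure_iff.1 a.2
    have := adjoin_simple_eq_adjoin_pow_expChar_pow_of_isSeparable F E hsepa p n
    exact (IntermediateField.adjoin_simple_le_iff.2 h3) (this ▸ mem_adjoin_simple_self F (a : E))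
  have h5 : x ∈ N := by
    have := sub_mem (mem_adjoin_simple_self F (x + algebraMap F E c₁ * (a : E))) (mul_mem (N.algebraMap_mem c₁) h4)
    rwa [add_sub_cancel_right] at this
  refine eq_top_iff.2 (htop ▸ sup_le ?_ (IntermediateField.adjoin_simple_le_iff.2 h5))
  exact hS.le.trans (IntermediateField.adjoin_simple_le_iff.2 h4)

end Groth.Agent.RamOm17
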